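import Groth.Agent.VBCurve.K708.Dual
import Groth.Agent.Dcoh.MonClosed
import Groth.Agent.Dcoh.MonPull292
import Groth.Agent.Dcoh.Spread
import Groth.Agent.Krr.H492.DualK
import Groth.Agent.Sga67.LocBasisOps
import Groth.Agent.S0927

/-!
# Embedding a vector bundle into a twist of the pull-back of a vector bundle

* `exists_embed`: an epimorphism `π^*W → E^∨ ⊗ L` gives `0 → E → L ⊗ π^*W^∨ → E' → 0`;
* `isZero_twist`: `R^p π_*(F ⊗ (π^*W ⊗ L)) = 0` if `R^p π_*(F ⊗ L) = 0`.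
-/

set_option autoImplicit false

universe u

open CategoryTheory CategoryTheory.Limits AlgebraicGeometry MonoidalCategory

namespace K536.Embed

open Groth.Agent
open Groth.Agent.Krr.H492.DualK (dl isFinLocFree_dl isFinLocFree_of_isInvertible)
open scoped Groth.Agent.Dcoh.MonCat

variable {X Y : Scheme.{u}}

/-- The dual object is the sheaf Hom into the structure sheaf. -/
noncomputable def dualIso (E E' : X.Modules) [ExactPairing E E'] : E' ≅ dl E :=
  (λ_ E').symm ≪≫ ((tensorRightAdjunction E E').rightAdjointUniq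
    (Dcoh.MonClosed.tensorRightHomAdj E)).app (𝟙_ X.Modules)

theorem dl_shortExact {S : ShortComplex X.Modules} (hS : S.ShortExact) (h₁ : FlatMod.IsFinLocFree S.X₁)
    (h₂ : FlatMod.IsFinLocFree S.X₂) (h₃ : FlatMod.IsFinLocFree S.X₃) :
    (Sga2.PnHomExact.homSC S (Coh.structureModule X)).ShortExact :=
  Sga2.PnHomExact.shortExact_homSC hS (Ega2.QCohLocal.isQCoh_of_isFinLocFree h₁)
    (Ega2.QCohLocal.isQCoh_of_isFinLocFree h₂) h₃ (Coh.structureModule X)

/-- The dual of an inverse of `L` is `L`. -/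
theorem nonempty_dl_iso {L N : X.Modules} (hL : PicF.IsInvertible L) (hN : PicF.IsInvertible N)
    (e : CohB1.tensorMod N L ≅ Coh.structureModule X) : Nonempty (dl N ≅ L) := by
  have h : Grpsch.PicGrp.mk N hN * Grpsch.PicGrp.mk L hL = 1 := by
    rw [Grpsch.PicGrp.mk_mul_mk, Grpsch.PicGrp.mk_eq_one_iff]
    exact ⟨e⟩
  have h1 : Grpsch.PicGrp.mk (Grpsch.PicGrp.dual N) (Grpsch.PicGrp.isInvertible_dual hN) =
      Grpsch.PicGrp.mk L hL := by
    rw [← Grpsch.PicGrp.inv_mk, inv_eq_iff_mul_eq_one]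
    exact h
  exact (Grpsch.PicGrp.mk_eq_iff _ _).mp h1

/-- `0 → E → π^*W' ⊗ L → E'' → 0` from an epimorphism `π^*W → E' ⊗ L`, `E'` dual to `E`. -/
theorem exists_embed (π : X ⟶ Y) {E E' L : X.Modules} [ExactPairing E E'] (hE : FlatMod.IsFinLocFree E)
    (hL : PicF.IsInvertible L) {W : Y.Modules} (hW : FlatMod.IsFinLocFree W)
    (φ : (Scheme.Modules.pullback π).obj W ⟶ CohB1.tensorMod E' L) [Epi φ] :
    ∃ (S : ShortComplex X.Modules) (W' : Y.Modules), S.ShortExact ∧ Nonempty (S.X₁ ≅ E) ∧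
      FlatMod.IsFinLocFree S.X₁ ∧ FlatMod.IsFinLocFree S.X₂ ∧ FlatMod.IsFinLocFree S.X₃ ∧
      FlatMod.IsFinLocFree W' ∧
      Nonempty (S.X₂ ≅ CohB1.tensorMod ((Scheme.Modules.pullback π).obj W') L) := by
  let _ : (Scheme.Modules.pullback π).Monoidal := Dcoh.MonPull.monPull π
  obtain ⟨N, hN, ⟨eN⟩⟩ := Grpsch.PicGrp.exists_inverse hL
  have hNf : FlatMod.IsFinLocFree N := isFinLocFree_of_isInvertible hN
  have hE' : FlatMod.IsFinLocFree E' := Dcoh.DualFLF.isFinLocFree_dual hE E'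
  have hpW : FlatMod.IsFinLocFree ((Scheme.Modules.pullback π).obj W) :=
    PerfB.FlatPull.isFinLocFree_pullback π hW
  -- the epimorphism `π^*W ⊗ N → E'`
  have hL' : CohB1.tensorMod L N ≅ Coh.structureModule X := eN
  let ψ : (Scheme.Modules.pullback π).obj W ⊗ N ⟶ E' :=
    (φ ▷ N) ≫ (α_ E' L N).hom ≫ (E' ◁ hL'.hom) ≫ (ρ_ E').hom
  have hφN : Epi (φ ▷ N) := by
    have h1 : Epi ((tensorRight N).map φ) := inferInstance
    exact h1
  have hψ : Epi ψ := by
    dsimp only [ψ]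
    infer_instance
  have hP : FlatMod.IsFinLocFree ((Scheme.Modules.pullback π).obj W ⊗ N) :=
    Sga67.LocBasis.isFinLocFree_tensorMod hpW hNf
  have hK : FlatMod.IsFinLocFree (kernel ψ) := Dcoh.Spread.isFinLocFree_kernel ψ hP hE'
  let T : ShortComplex X.Modules := ShortComplex.mk (kernel.ι ψ) ψ (kernel.condition ψ)
  have hT : T.ShortExact :=
    { exact := ShortComplex.exact_kernel ψ
      mono_f := inferInstanceAs (Mono (kernel.ι ψ))
      epi_g := hψ }
  obtain ⟨N', ⟨_⟩⟩ := Dcoh.DualFLF.exists_exactPairing hNf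
  obtain ⟨W', ⟨_⟩⟩ := Dcoh.DualFLF.exists_exactPairing hW
  let _ : ExactPairing ((Scheme.Modules.pullback π).obj W) ((Scheme.Modules.pullback π).obj W') :=
    Dcoh.MonDual.mapExactPairing (Scheme.Modules.pullback π) W W'
  let _ : ExactPairing E' E := K708.Dual.swapPairing E E'
  have e1 : E ≅ dl E' := dualIso E' E
  have e2 : N' ⊗ (Scheme.Modules.pullback π).obj W' ≅ dl ((Scheme.Modules.pullback π).obj W ⊗ N) :=
    dualIso ((Scheme.Modules.pullback π).obj W ⊗ N) (N' ⊗ (Scheme.Modules.pullback π).obj W')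
  obtain ⟨e3⟩ := nonempty_dl_iso hL hN ((β_ N L) ≪≫ eN)
  have e4 : N' ≅ L := dualIso N N' ≪≫ e3
  refine ⟨Sga2.PnHomExact.homSC T (Coh.structureModule X), W', dl_shortExact hT hK hP hE', ⟨e1.symm⟩,
    isFinLocFree_dl hE', isFinLocFree_dl hP, isFinLocFree_dl hK,
    Dcoh.DualFLF.isFinLocFree_dual hW W', ⟨e2.symm ≪≫ (β_ _ _) ≪≫ whiskerLeftIso _ e4⟩⟩

theorem isZero_twist (π : X ⟶ Y) [HasInjectiveResolutions X.Modules] (F L : X.Modules) {W : Y.Modules}
    (hW : FlatMod.IsFinLocFree W) (p : ℕ) (h : IsZero ((Coh.Rpush π p).obj (CohB1.tensorMod F L))) :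
    IsZero ((Coh.Rpush π p).obj (CohB1.tensorMod F
      (CohB1.tensorMod ((Scheme.Modules.pullback π).obj W) L))) := by
  obtain ⟨e⟩ := S0927.result π (CohB1.tensorMod F L) W hW p
  have h1 : IsZero (CohB1.tensorMod W ((Coh.Rpush π p).obj (CohB1.tensorMod F L))) :=
    (tensorLeft W).map_isZero h
  have e2 : CohB1.tensorMod ((Scheme.Modules.pullback π).obj W) (CohB1.tensorMod F L) ≅
      CohB1.tensorMod F (CohB1.tensorMod ((Scheme.Modules.pullback π).obj W) L) :=
    (α_ _ _ _).symm ≪≫ whiskerRightIso (β_ _ _) L ≪≫ α_ _ _ _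
  exact (h1.of_iso e.symm).of_iso ((Coh.Rpush π p).mapIso e2).symm

end K536.Embed
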