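import Mathlib.Algebra.Homology.Augment
import Mathlib.Algebra.Homology.ShortComplex.ShortExact
import Mathlib.Algebra.Homology.ShortComplex.Abelian
import Mathlib.Algebra.Homology.ExactSequence
import Mathlib.Algebra.Homology.ShortComplex.HomologicalComplex

/-!
# Splicing right resolutions

* `exists_splice`: `0 → E → E₀ → E' → 0` and a right resolution of `E'` give one of `E`;
* `exists_res`: right resolutions by induction on a cohomological dimension.
-/

set_option autoImplicit false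

universe v u

open CategoryTheory CategoryTheory.Limits ZeroObject

namespace K536.Splice

variable {A : Type u} [Category.{v} A] [Abelian A]

section

variable {E E0 E' : A} (i : E ⟶ E0) (q : E0 ⟶ E') (C' : CochainComplex A ℕ) (e' : C'.X 0 ≅ E')

/-- The objects of the spliced complex. -/
def obj (E E0 : A) (C' : CochainComplex A ℕ) : ℕ → A
  | 0 => E
  | 1 => E0
  | n + 2 => C'.X (n + 1)

/-- The differentials of the spliced complex. -/
noncomputable def dif {E E0 E' : A} (i : E ⟶ E0) (q : E0 ⟶ E') (C' : CochainComplex A ℕ) (e' : C'.X 0 ≅ E') :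
    ∀ n : ℕ, obj E E0 C' n ⟶ obj E E0 C' (n + 1)
  | 0 => i
  | 1 => q ≫ e'.inv ≫ C'.d 0 1
  | n + 2 => C'.d (n + 1) (n + 2)

theorem dif_comp (w : i ≫ q = 0) : ∀ n : ℕ, dif i q C' e' n ≫ dif i q C' e' (n + 1) = 0
  | 0 => by
    change i ≫ q ≫ e'.inv ≫ C'.d 0 1 = 0
    rw [← Category.assoc, w, zero_comp]
  | 1 => by
    change (q ≫ e'.inv ≫ C'.d 0 1) ≫ C'.d 1 2 = 0
    simp
  | n + 2 => C'.d_comp_d _ _ _

/-- The spliced complex. -/
noncomputable def cx (w : i ≫ q = 0) : CochainComplex A ℕ :=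
  CochainComplex.of (obj E E0 C') (dif i q C' e') (dif_comp i q C' e' w)

theorem cx_d (w : i ≫ q = 0) (n : ℕ) : (cx i q C' e' w).d n (n + 1) = dif i q C' e' n :=
  CochainComplex.of_d _ _ _

theorem mono_d_zero (hC' : C'.Acyclic) : Mono (C'.d 0 1) := by
  have h := hC' 0
  rw [HomologicalComplex.exactAt_iff' C' 0 0 1 (by simp) (by simp)] at h
  rwa [ShortComplex.exact_iff_mono _ (C'.shape 0 0 (by simp))] at h

theorem exact_succ (hC' : C'.Acyclic) (n : ℕ) :
    (ShortComplex.mk (C'.d n (n + 1)) (C'.d (n + 1) (n + 2)) (C'.d_comp_d _ _ _)).Exact := by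
  have h := hC' (n + 1)
  rwa [HomologicalComplex.exactAt_iff' C' n (n + 1) (n + 2) (by simp) (by simp)] at h

theorem exact_dif (w : i ≫ q = 0) (hS : (ShortComplex.mk i q w).ShortExact) (hC' : C'.Acyclic) :
    ∀ n : ℕ, (ShortComplex.mk (dif i q C' e' n) (dif i q C' e' (n + 1)) (dif_comp i q C' e' w n)).Exact
  | 0 => by
    have hm : Mono (C'.d 0 1) := mono_d_zero C' hC'
    let φ : ShortComplex.mk i q w ⟶
        ShortComplex.mk (dif i q C' e' 0) (dif i q C' e' 1) (dif_comp i q C' e' w 0) :=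
      { τ₁ := 𝟙 _
        τ₂ := 𝟙 _
        τ₃ := e'.inv ≫ C'.d 0 1
        comm₁₂ := (Category.id_comp _).trans (Category.comp_id _).symm
        comm₂₃ := Category.id_comp _ }
    have h1 : Epi φ.τ₁ := inferInstanceAs (Epi (𝟙 _))
    have h2 : IsIso φ.τ₂ := inferInstanceAs (IsIso (𝟙 _))
    have h3 : Mono φ.τ₃ := mono_comp e'.inv (C'.d 0 1)
    exact (ShortComplex.exact_iff_of_epi_of_isIso_of_mono φ).mp hS.exact
  | 1 => by
    have hq : Epi q := hS.epi_g
    let φ : ShortComplex.mk (dif i q C' e' 1) (dif i q C' e' 2) (dif_comp i q C' e' w 1) ⟶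
        ShortComplex.mk (C'.d 0 1) (C'.d 1 2) (C'.d_comp_d _ _ _) :=
      { τ₁ := q ≫ e'.inv
        τ₂ := 𝟙 _
        τ₃ := 𝟙 _
        comm₁₂ := (Category.assoc _ _ _).trans (Category.comp_id _).symm
        comm₂₃ := (Category.id_comp _).trans (Category.comp_id _).symm }
    have h1 : Epi φ.τ₁ := epi_comp q e'.inv
    have h2 : IsIso φ.τ₂ := inferInstanceAs (IsIso (𝟙 _))
    have h3 : Mono φ.τ₃ := inferInstanceAs (Mono (𝟙 _))
    exact (ShortComplex.exact_iff_of_epi_of_isIso_of_mono φ).mpr (exact_succ C' hC' 0)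
  | n + 2 => exact_succ C' hC' (n + 1)

theorem acyclic_cx (w : i ≫ q = 0) (hS : (ShortComplex.mk i q w).ShortExact) (hC' : C'.Acyclic) :
    (cx i q C' e' w).Acyclic := by
  intro n
  cases n with
  | zero =>
    rw [HomologicalComplex.exactAt_iff' _ 0 0 1 (by simp) (by simp),
      ShortComplex.exact_iff_mono _ ((cx i q C' e' w).shape 0 0 (by simp))]
    change Mono ((cx i q C' e' w).d 0 1)
    rw [cx_d]
    exact hS.mono_f
  | succ n =>
    rw [HomologicalComplex.exactAt_iff' _ n (n + 1) (n + 2) (by simp) (by simp)]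
    have h1 : (HomologicalComplex.sc' (cx i q C' e' w) n (n + 1) (n + 2)) ≅
        ShortComplex.mk (dif i q C' e' n) (dif i q C' e' (n + 1)) (dif_comp i q C' e' w n) :=
      ShortComplex.isoMk (Iso.refl _) (Iso.refl _) (Iso.refl _)
        ((Category.id_comp _).trans (((Category.comp_id _).trans (cx_d i q C' e' w n)).symm))
        ((Category.id_comp _).trans (((Category.comp_id _).trans (cx_d i q C' e' w (n + 1))).symm))
    exact (ShortComplex.exact_iff_of_iso h1).mpr (exact_dif i q C' e' w hS hC' n)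

end

/-- A right resolution of `E` with terms in `P`, with terms in `Q` in degrees `1, …, c`, zero in degrees `> c`. -/
def Res (P Q : A → Prop) (c : ℕ) (E : A) : Prop :=
  ∃ (C : CochainComplex A ℕ) (_ : C.X 0 ≅ E), C.Acyclic ∧ (∀ i, c < i → IsZero (C.X i)) ∧ (∀ i, P (C.X i)) ∧
    ∀ i, 1 ≤ i → Q (C.X i)

theorem res_splice {P Q : A → Prop} {c : ℕ} {S : ShortComplex A} (hS : S.ShortExact) (h1 : P S.X₁) (h2 : P S.X₂)
    (hQ : Q S.X₂) (h3 : Res P Q c S.X₃) : Res P Q (c + 1) S.X₁ := by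
  obtain ⟨C', e', ha, hz, hP, hQ'⟩ := h3
  refine ⟨cx S.f S.g C' e' S.zero, Iso.refl _, acyclic_cx S.f S.g C' e' S.zero hS ha, ?_, ?_, ?_⟩
  · rintro (_ | _ | n) hn
    · omega
    · omega
    · exact hz (n + 1) (by omega)
  · rintro (_ | _ | n)
    · exact h1
    · exact h2
    · exact hP (n + 1)
  · rintro (_ | _ | n) hn
    · omega
    · exact hQ
    · exact hQ' (n + 1) (by omega)

theorem res_zero {P Q : A → Prop} (hP : ∀ M : A, IsZero M → P M) (hQ : ∀ M : A, IsZero M → Q M) (c : ℕ) {E : A}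
    (hE : IsZero E) : Res P Q c E := by
  let C : CochainComplex A ℕ := 0
  have hz : ∀ i, IsZero (C.X i) := fun i =>
    (HomologicalComplex.eval A (ComplexShape.up ℕ) i).map_isZero (isZero_zero _)
  refine ⟨C, (hz 0).iso hE, fun i => ?_, fun i _ => hz i, fun i => hP _ (hz i), fun i _ => hQ _ (hz i)⟩
  exact ShortComplex.exact_of_isZero_X₂ _ (hz _)

theorem res_one {P Q : A → Prop} (hP : ∀ M : A, IsZero M → P M) (hQ : ∀ M : A, IsZero M → Q M) (c : ℕ) {E : A}
    (h1 : P E) (h2 : Q E) : Res P Q (c + 1) E := by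
  have hS : (ShortComplex.mk (𝟙 E) (0 : E ⟶ 0) (by simp)).ShortExact :=
    { exact := by
        rw [ShortComplex.exact_iff_epi _ (by simp)]
        exact inferInstanceAs (Epi (𝟙 E))
      mono_f := inferInstanceAs (Mono (𝟙 E))
      epi_g := inferInstanceAs (Epi (0 : E ⟶ 0)) }
  exact res_splice hS h1 h1 h2 (res_zero hP hQ c (isZero_zero A))

theorem res_of_iso {P Q : A → Prop} {c : ℕ} {E F : A} (e : E ≅ F) (h : Res P Q c E) : Res P Q c F := by
  obtain ⟨C, e', h⟩ := h
  exact ⟨C, e' ≪≫ e, h⟩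

/-- Right resolutions by induction on a cohomological dimension. -/
theorem exists_res {P Q : A → Prop} (V : ℕ → A → Prop) (hP : ∀ M : A, IsZero M → P M)
    (hQ : ∀ M : A, IsZero M → Q M) (h0 : ∀ E, P E → V 0 E → Q E)
    (hstep : ∀ E, P E → ∃ S : ShortComplex A, S.ShortExact ∧ Nonempty (S.X₁ ≅ E) ∧ P S.X₁ ∧ P S.X₂ ∧ Q S.X₂ ∧
      P S.X₃ ∧ ∀ c, V (c + 1) E → V c S.X₃) (c : ℕ) :
    ∀ E, P E → V c E → Res P Q (c + 1) E := by
  induction c with
  | zero => exact fun E hE hV => res_one hP hQ 0 hE (h0 E hE hV)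
  | succ c ih =>
    intro E hE hV
    obtain ⟨S, hS, ⟨e⟩, h1, h2, h3, h4, h5⟩ := hstep E hE
    exact res_of_iso e (res_splice hS h1 h2 h3 (ih _ h4 (h5 c hV)))

end K536.Splice
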