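import Groth.Agent.IntSh.K536.Van
import Groth.Agent.IntSh.K536.Embed
import Groth.Agent.IntSh.K536.Splice
import Groth.Agent.Dcoh.FlatSES
import Groth.Agent.PerfC.RelFlat
import Groth.Agent.EGA2.K30.CounitGG
import Groth.Agent.EGA2.K32.ProjIff
import Groth.Agent.EGA2.K34.RelAmpInv
import Groth.Agent.Sga2.LefCoh644
import Groth.Agent.Sga2.PnCoprod
import Groth.Agent.S0036
import Groth.Agent.S0055
import Groth.Agent.S2390
import Groth.Agent.S2297
import Groth.Agent.Fdesc.AssFlat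
import Groth.Agent.Ega4B.RpushCompare

/-!
# One step of the acyclic resolution of a vector bundle

* `exists_vanish`: `R^p π_*(F ⊗ L^n) = 0`, `p > 0`, `n ≫ 0`, `L` relatively ample;
* `exists_epi`: an epimorphism `π^*W → M ⊗ L^n`, `W` finite locally free on the base;
* `exists_step`: `0 → E → E₀ → E' → 0` with `R^p π_*(F ⊗ E₀) = 0` for `p > 0`;
* `exists_res`: the resolution.
-/

set_option autoImplicit false

universe u

open CategoryTheory CategoryTheory.Limits AlgebraicGeometry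

namespace K536.Step

open Groth.Agent Groth.Agent.Fdesc.LocGen

variable {X Y : Scheme.{u}} (π : X ⟶ Y)

theorem exists_vanish [IsProper π] [IsNoetherian Y] [HasInjectiveResolutions X.Modules] {L F : X.Modules}
    (hL : RelAmple.IsRelAmple π L) (hF : Coh.IsCoh F) :
    ∃ n₀ : ℕ, ∀ n : ℕ, n₀ ≤ n → ∀ p : ℕ, 0 < p →
      IsZero ((Coh.Rpush π p).obj (CohB1.tensorMod F (CohB1.tensorPow L n))) := by
  obtain ⟨n₀, h⟩ := S0055.result π L (K34.RelAmpInv.isInvertible_of_isRelAmple π hL)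
    (fun W hW => hL.2 ⟨W, hW⟩) F hF
  exact ⟨n₀, fun n hn p hp => (Ega4B.RpushCompare.isZero_rpush_iff π _ p).mpr (h n hn p hp)⟩

theorem isCoh_flf {M : X.Modules} (hM : FlatMod.IsFinLocFree M) : Coh.IsCoh M :=
  PerfA.CohSerre.isCoh_of_isFinLocFree hM

theorem exists_epi [IsNoetherian X] [IsNoetherian Y] [IsProper π] [HasInjectiveResolutions X.Modules]
    (hAB : Flat π ∨ ∃ H : Y.Modules, CohB1.IsAmple H) {L M : X.Modules}
    (hL : RelAmple.IsRelAmple π L) (hM : FlatMod.IsFinLocFree M) :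
    ∃ n₀ : ℕ, ∀ n : ℕ, n₀ ≤ n → ∃ (W : Y.Modules) (_ : FlatMod.IsFinLocFree W)
      (φ : (Scheme.Modules.pullback π).obj W ⟶ CohB1.tensorMod M (CohB1.tensorPow L n)), Epi φ := by
  have hLi := K34.RelAmpInv.isInvertible_of_isRelAmple π hL
  have hMc : Coh.IsCoh M := isCoh_flf hM
  obtain ⟨n₁, h₁⟩ := K30.CounitGG.exists_epi_counit π hL hMc.1 hMc.2
  obtain ⟨n₂, h₂⟩ := exists_vanish π hL hMc
  refine ⟨max n₁ n₂, fun n hn => ?_⟩
  have hepi := h₁ n ((le_max_left _ _).trans hn)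
  have hG : FlatMod.IsFinLocFree (CohB1.tensorMod M (CohB1.tensorPow L n)) :=
    Sga67.LocBasis.isFinLocFree_tensorMod hM
      (Krr.H492.DualK.isFinLocFree_of_isInvertible (isInvertible_tensorPow hLi n))
  rcases hAB with hf | ⟨H, hH⟩
  · have h3 := S2390.result π _ (isCoh_flf hG)
      (PerfC.RelFlat.isFlatOver_of_isFlat π (Dcoh.Spread.isFlat_of_isFinLocFree hG))
      (fun i hi => h₂ n ((le_max_right _ _).trans hn) i hi)
    refine ⟨(Scheme.Modules.pushforward π).obj (CohB1.tensorMod M (CohB1.tensorPow L n)), fun y => ?_, _, hepi⟩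
    obtain ⟨U, hU, e⟩ := h3.2 y
    exact ⟨U, _, hU, e⟩
  · obtain ⟨P, hP, e⟩ := Grpsch.PicGrp.exists_inverse hH.1
    have h0 : Coh.IsCoh ((Coh.Rpush π 0).obj (CohB1.tensorMod M (CohB1.tensorPow L n))) :=
      S0036.result π _ (isCoh_flf hG) 0
    have h1 : Coh.IsCoh ((Scheme.Modules.pushforward π).obj (CohB1.tensorMod M (CohB1.tensorPow L n))) :=
      PerfA.CohSerre.isCoh_of_iso (((Scheme.Modules.pushforward π).rightDerivedZeroIsoSelf).app _) h0
    obtain ⟨κ, _, a, q, hq⟩ := Sga2.LefCoh644.exists_epi hH e h1.1 h1.2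
    have hW : FlatMod.IsFinLocFree (∐ fun _ : κ => CohB1.tensorPow P a) :=
      Sga2.PnCoprod.isFinLocFree_coproduct _ fun _ =>
        Krr.H492.DualK.isFinLocFree_of_isInvertible (isInvertible_tensorPow hP a)
    refine ⟨_, hW, (Scheme.Modules.pullback π).map q ≫
      (Scheme.Modules.pullbackPushforwardAdjunction π).counit.app _, ?_⟩
    have h4 : Epi ((Scheme.Modules.pullback π).map q) := inferInstance
    exact epi_comp _ _

section

variable [HasInjectiveResolutions X.Modules] {ι : Type*} (F : ι → X.Modules)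

/-- Vanishing of `R^p π_*(F_i ⊗ E)` for `p > c`. -/
def V (c : ℕ) (E : X.Modules) : Prop :=
  ∀ (i : ι) (p : ℕ), c < p → IsZero ((Coh.Rpush π p).obj ((DCoh.tensorBi.obj (F i)).obj E))

variable {F}

/-- One step. -/
theorem exists_step [Finite ι] [IsNoetherian X] [IsNoetherian Y] [IsProper π]
    (hAB : Flat π ∨ ∃ H : Y.Modules, CohB1.IsAmple H) {L : X.Modules}
    (hL : RelAmple.IsRelAmple π L) (hF : ∀ i, Coh.IsCoh (F i)) (E : X.Modules) (hE : FlatMod.IsFinLocFree E) :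
    ∃ S : ShortComplex X.Modules, S.ShortExact ∧ Nonempty (S.X₁ ≅ E) ∧ FlatMod.IsFinLocFree S.X₁ ∧
      FlatMod.IsFinLocFree S.X₂ ∧ V π F 0 S.X₂ ∧ FlatMod.IsFinLocFree S.X₃ ∧
      ∀ c, V π F (c + 1) E → V π F c S.X₃ := by
  have hLi := K34.RelAmpInv.isInvertible_of_isRelAmple π hL
  obtain ⟨E', ⟨hEE⟩⟩ := Dcoh.DualFLF.exists_exactPairing hE
  have hE' : FlatMod.IsFinLocFree E' := Dcoh.DualFLF.isFinLocFree_dual hE E'
  obtain ⟨n₁, h₁⟩ := exists_epi π hAB hL hE'
  choose m hm using fun i => exists_vanish π hL (hF i)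
  obtain ⟨n₂, hn₂⟩ := (Set.finite_range m).bddAbove
  obtain ⟨W, hW, φ, hφ⟩ := h₁ (max n₁ n₂) (le_max_left _ _)
  obtain ⟨S, W', hS, ⟨e1⟩, hS1, hS2, hS3, hW', ⟨e2⟩⟩ := Embed.exists_embed π hE
    (isInvertible_tensorPow hLi (max n₁ n₂)) hW φ
  have hV : V π F 0 S.X₂ := fun i p hp => by
    have h3 := Embed.isZero_twist π (F i) (CohB1.tensorPow L (max n₁ n₂)) hW' p
      (hm i _ ((hn₂ ⟨i, rfl⟩).trans (le_max_right _ _)) p hp)
    exact h3.of_iso ((Coh.Rpush π p).mapIso ((DCoh.tensorBi.obj (F i)).mapIso e2))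
  refine ⟨S, hS, ⟨e1⟩, hS1, hS2, hV, hS3, fun c hc i p hp => ?_⟩
  obtain ⟨q, rfl⟩ : ∃ q, p = q + 1 := ⟨p - 1, by omega⟩
  have hT : (S.map (DCoh.tensorBi.obj (F i))).ShortExact :=
    Dcoh.FlatSES.shortExact_tensor' hS (Dcoh.Spread.isFlat_of_isFinLocFree hS3) (F i)
  obtain ⟨e⟩ := Etcore.DerLES.nonempty_iso_succ (Scheme.Modules.pushforward π) hT
    (fun q => hV i (q + 1) (Nat.succ_pos q)) q
  have h5 : IsZero ((Coh.Rpush π (q + 2)).obj ((DCoh.tensorBi.obj (F i)).obj S.X₁)) :=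
    (hc i (q + 2) (by omega)).of_iso ((Coh.Rpush π (q + 2)).mapIso ((DCoh.tensorBi.obj (F i)).mapIso e1))
  exact h5.of_iso e.symm

omit [HasInjectiveResolutions X.Modules] in
theorem support_tensor_left (M N : X.Modules) :
    CohB1.support (CohB1.tensorMod M N) ⊆ CohB1.support M := by
  intro x hx
  by_contra h
  rw [Groth.Agent.CohqB.DevSupport.not_mem_support_iff] at h
  refine hx ?_
  have e := (Groth.Agent.Fdesc.AssFlat.tensorModStalk M N x).toEquiv
  refine @Equiv.subsingleton _ _ e ?_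
  infer_instance

theorem V_dim [IsProper π] [IsNoetherian X] [IsNoetherian Y] (hF : ∀ i, Coh.IsCoh (F i)) (d : ℕ)
    (hd : ∀ i (y : Y), topologicalKrullDim ↥{x : X | x ∈ CohB1.support (F i) ∧ π.base x = y} ≤ d)
    {E : X.Modules} (hE : FlatMod.IsFinLocFree E) : V π F d E := by
  intro i p hp
  have := (hF i).1
  have hEc := isCoh_flf hE
  have := hEc.1
  have hG : Coh.IsCoh ((DCoh.tensorBi.obj (F i)).obj E) :=
    ⟨(Groth.Agent.S2297.result (F i) E).1, (Groth.Agent.S2297.result (F i) E).2 (hF i).2 hEc.2⟩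
  refine Van.isZero_Rpush π hG d (fun y => le_trans ?_ (hd i y)) p hp
  have hm : ∀ x : ↥{x : X | x ∈ CohB1.support ((DCoh.tensorBi.obj (F i)).obj E) ∧ π.base x = y},
      x.1 ∈ {x : X | x ∈ CohB1.support (F i) ∧ π.base x = y} := 
    fun x => ⟨support_tensor_left _ _ x.2.1, x.2.2⟩
  exact (Topology.IsInducing.of_comp (continuous_subtype_val.subtype_mk hm) continuous_subtype_val
    Topology.IsInducing.subtypeVal :
      Topology.IsInducing (fun x : ↥{x : X | x ∈ CohB1.support ((DCoh.tensorBi.obj (F i)).obj E) ∧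
        π.base x = y} => (⟨x.1, hm x⟩ : ↥{x : X | x ∈ CohB1.support (F i) ∧ π.base x = y}))).topologicalKrullDim_le

theorem V_of_isZero (c : ℕ) {M : X.Modules} (hM : IsZero M) : V π F c M := fun i p _ =>
  (Coh.Rpush π p).map_isZero ((DCoh.tensorBi.obj (F i)).map_isZero hM)

/-- Resolutions of vector bundles by vector bundles acyclic for several coherent modules. -/
theorem exists_res [Finite ι] [IsNoetherian X] [IsNoetherian Y] (hπ : RelProj.IsProjective π)
    (hAB : Flat π ∨ ∃ H : Y.Modules, CohB1.IsAmple H) (hF : ∀ i, Coh.IsCoh (F i)) (d : ℕ)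
    (hd : ∀ i (y : Y), topologicalKrullDim ↥{x : X | x ∈ CohB1.support (F i) ∧ π.base x = y} ≤ d)
    (E : X.Modules) (hE : FlatMod.IsFinLocFree E) :
    ∃ (C : CochainComplex X.Modules ℕ) (_ : C.X 0 ≅ E),
      C.Acyclic ∧ (∀ i, d + 1 < i → IsZero (C.X i)) ∧ (∀ i, FlatMod.IsFinLocFree (C.X i)) ∧
      ∀ j, 1 ≤ j → ∀ (i : ι) (p : ℕ), 0 < p →
        IsZero ((Coh.Rpush π p).obj ((DCoh.tensorBi.obj (F i)).obj (C.X j))) := by
  have hpr : IsProper π := Groth.Agent.EGA2.K32.ProjVA.isProper_of_isProjective hπ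
  obtain ⟨-, -, L, hL⟩ := Groth.Agent.EGA2.K32.ProjIff.isQuasiProjective hπ
  exact Splice.exists_res (P := fun M : X.Modules => FlatMod.IsFinLocFree M) (Q := fun M => V π F 0 M)
    (fun c M => V π F c M) (fun M hM => Dcoh.FinLocFree.isFinLocFree_of_isZero hM)
    (fun M hM => V_of_isZero π 0 hM) (fun E _ h => h) (fun E hE => exists_step π hAB hL hF E hE) d E hE
    (V_dim π hF d hd hE)

/-- The class of a vector bundle is a combination of classes of vector bundles acyclic for several coherent modules. -/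
theorem mem_closure [Finite ι] [IsNoetherian X] [IsNoetherian Y] (hπ : RelProj.IsProjective π)
    (hAB : Flat π ∨ ∃ H : Y.Modules, CohB1.IsAmple H) (hF : ∀ i, Coh.IsCoh (F i)) (d : ℕ)
    (hd : ∀ i (y : Y), topologicalKrullDim ↥{x : X | x ∈ CohB1.support (F i) ∧ π.base x = y} ≤ d)
    {G : Type*} [AddCommGroup G] (a : X.Modules → G)
    (ha : ∀ S : ShortComplex X.Modules, S.ShortExact → FlatMod.IsFinLocFree S.X₁ → FlatMod.IsFinLocFree S.X₂ →
      FlatMod.IsFinLocFree S.X₃ → a S.X₂ = a S.X₁ + a S.X₃)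
    (E : X.Modules) (hE : FlatMod.IsFinLocFree E) :
    a E ∈ AddSubgroup.closure {g : G | ∃ M : X.Modules, FlatMod.IsFinLocFree M ∧ g = a M ∧
      ∀ (i : ι) (p : ℕ), 0 < p → IsZero ((Coh.Rpush π p).obj ((DCoh.tensorBi.obj (F i)).obj M))} := by
  have hpr : IsProper π := Groth.Agent.EGA2.K32.ProjVA.isProper_of_isProjective hπ
  obtain ⟨-, -, L, hL⟩ := Groth.Agent.EGA2.K32.ProjIff.isQuasiProjective hπ
  have ha0 : ∀ M : X.Modules, IsZero M → a M = 0 := fun M hM => by
    have hS : (ShortComplex.mk (𝟙 M) (𝟙 M) (hM.eq_of_src _ _)).ShortExact :=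
      { exact := ShortComplex.exact_of_isZero_X₂ _ hM
        mono_f := inferInstanceAs (Mono (𝟙 M))
        epi_g := inferInstanceAs (Epi (𝟙 M)) }
    have hf := Dcoh.FinLocFree.isFinLocFree_of_isZero hM
    exact left_eq_add.mp (ha _ hS hf hf hf)
  have hai : ∀ (M N : X.Modules), FlatMod.IsFinLocFree M → (M ≅ N) → a M = a N := fun M N hM e => by
    have hz : IsZero (cokernel e.hom) := isZero_cokernel_of_epi e.hom
    have hS : (ShortComplex.mk e.hom (cokernel.π e.hom) (cokernel.condition e.hom)).ShortExact :=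
      { exact := ShortComplex.exact_cokernel e.hom
        mono_f := inferInstanceAs (Mono e.hom)
        epi_g := inferInstanceAs (Epi (cokernel.π e.hom)) }
    have h := ha _ hS hM (Dcoh.FinLocFree.isFinLocFree_of_iso e hM)
      (Dcoh.FinLocFree.isFinLocFree_of_isZero hz)
    have h' : a N = a M + a (cokernel e.hom) := h
    rw [h', ha0 _ hz, add_zero]
  have key : ∀ (c : ℕ) (E : X.Modules), FlatMod.IsFinLocFree E → V π F c E →
      a E ∈ AddSubgroup.closure {g : G | ∃ M : X.Modules, FlatMod.IsFinLocFree M ∧ g = a M ∧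
        ∀ (i : ι) (p : ℕ), 0 < p → IsZero ((Coh.Rpush π p).obj ((DCoh.tensorBi.obj (F i)).obj M))} := by
    intro c
    induction c with
    | zero => exact fun E hE hV => AddSubgroup.subset_closure ⟨E, hE, rfl, hV⟩
    | succ c ih =>
      intro E hE hV
      obtain ⟨S, hS, ⟨e⟩, h1, h2, h3, h4, h5⟩ := exists_step π hAB hL hF E hE
      rw [← hai _ _ h1 e, ← add_sub_cancel_right (a S.X₁) (a S.X₃), ← ha S hS h1 h2 h4]
      exact AddSubgroup.sub_mem _ (AddSubgroup.subset_closure ⟨_, h2, rfl, h3⟩) (ih _ h4 (h5 c hV))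
  exact key d E hE (V_dim π hF d hd hE)

end

end K536.Step
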