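import Groth.Agent.S0042
import Groth.Agent.Ega3B.RpushAbCmp
import Groth.Agent.Krr.H485.PushCoh
import Groth.Agent.FormalA.PullbackQC
import Groth.Agent.IntSh.K879.FibDim
import Groth.Agent.CohqB.DevSupport

/-!
# Higher direct images vanish above the dimension of the fibres of the support

* `isZero_Rpush`: `R^p π_* G = 0` for `p > d` if `Supp G ∩ π⁻¹ y` has dimension at most `d` for all `y`.
-/

set_option autoImplicit false

universe u

open CategoryTheory CategoryTheory.Limits AlgebraicGeometry TopologicalSpace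

namespace K536.Van

open Groth.Agent K879.FibDim

variable {X Y : Scheme.{u}} (π : X ⟶ Y) [IsProper π] [IsLocallyNoetherian Y]
  [HasInjectiveResolutions X.Modules]

omit [IsProper π] [IsLocallyNoetherian Y] [HasInjectiveResolutions X.Modules] in
/-- The fibres of the scheme theoretic support. -/
theorem dim_fiber_le {G : X.Modules} (hG : Coh.IsCoh G) (y : Y) (d : WithBot ℕ∞)
    (hd : topologicalKrullDim ↥{x : X | x ∈ CohB1.support G ∧ π.base x = y} ≤ d) :
    topologicalKrullDim ↥((inc hG ≫ π).fiber y) ≤ d := by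
  refine le_trans ?_ hd
  have e1 : topologicalKrullDim ↥((inc hG ≫ π).fiber y) =
      topologicalKrullDim ↥((inc hG ≫ π).base ⁻¹' {y}) :=
    IsHomeomorph.topologicalKrullDim_eq _ ((inc hG ≫ π).fiberHomeo y).isHomeomorph
  rw [e1]
  have hm : ∀ z : ↥((inc hG ≫ π).base ⁻¹' {y}), (inc hG).base z.1 ∈
      {x : X | x ∈ CohB1.support G ∧ π.base x = y} := by
    rintro ⟨z, hz⟩
    refine ⟨?_, hz⟩
    rw [← range_inc hG]
    exact ⟨z, rfl⟩
  let φ : ↥((inc hG ≫ π).base ⁻¹' {y}) → ↥{x : X | x ∈ CohB1.support G ∧ π.base x = y} :=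
    fun z => ⟨(inc hG).base z.1, hm z⟩
  have hφ : Topology.IsInducing φ := by
    have h1 : Topology.IsInducing (fun z : ↥((inc hG ≫ π).base ⁻¹' {y}) => (inc hG).base z.1) :=
      (inc hG).isEmbedding.isInducing.comp Topology.IsInducing.subtypeVal
    exact Topology.IsInducing.of_comp (h1.continuous.subtype_mk hm) continuous_subtype_val h1
  exact hφ.topologicalKrullDim_le

theorem isZero_Rpush {G : X.Modules} (hG : Coh.IsCoh G) (d : ℕ)
    (hd : ∀ y : Y, topologicalKrullDim ↥{x : X | x ∈ CohB1.support G ∧ π.base x = y} ≤ d)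
    (p : ℕ) (hp : d < p) : IsZero ((Coh.Rpush π p).obj G) := by
  have hZ : HasInjectiveResolutions (Sup hG).Modules := Krr.H485.LerayCl.hasInjectiveResolutions _
  let M := (Scheme.Modules.pullback (inc hG)).obj G
  have hM : Coh.IsCoh M := ⟨FormalA.PullbackQC.isQCoh_pullback _ G hG.1,
    FormalA.PullbackQC.isFT_pullback _ G hG.2⟩
  obtain ⟨e1⟩ := Ega3B.RpushAbCmp.nonempty_toAb_Rpush_iso (inc hG ≫ π) M p
  obtain ⟨e2⟩ := Krr.H485.LerayCl.nonempty_iso (inc hG) π M p
  have e3 : (Coh.Rpush π p).obj ((Scheme.Modules.pushforward (inc hG)).obj M) ≅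
    (Coh.Rpush π p).obj G := (Coh.Rpush π p).mapIso (FormalA.AnnIdeal.pushPullIso G hG.1 hG.2)
  refine CohqB.DevSupport.isZero_of_support_eq_empty ?_
  ext y
  simp only [Set.mem_empty_iff_false, iff_false]
  intro hy
  refine hy ?_
  have h1 := S0042.result (inc hG ≫ π) y d (dim_fiber_le π hG y d (hd y)) M hM p hp
  have e4 : (Coh.toAb ((Coh.Rpush π p).obj G)).obj ≅
      ((Coh.RpushAb (inc hG ≫ π) p).obj (Coh.toAb M)).obj :=
    (sheafToPresheaf _ _).mapIso ((SheafOfModules.toSheaf Y.ringCatSheaf).mapIso (e2 ≪≫ e3).symm ≪≫ e1)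
  have e5 := (TopCat.Presheaf.stalkFunctor AddCommGrpCat.{u} y).mapIso e4
  exact AddCommGrpCat.subsingleton_of_isZero (h1.of_iso e5)

end K536.Van
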